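import Cfsg.Agent.PspSixGraph.EightField

/-!
Powers of the elements of orders `5, 7, 13` of `Sz(8)` (generated data).
-/

set_option autoImplicit false
set_option maxRecDepth 100000

namespace CfsgLib.PspSixGraph

open Matrix

/-- The powers of the element of order 13. -/
def szp13 : List M8 := [ofNat4 ![![1, 0, 0, 0], ![0, 1, 0, 0], ![0, 0, 1, 0], ![0, 0, 0, 1]],
  ofNat4 ![![0, 0, 0, 1], ![0, 0, 1, 0], ![0, 1, 0, 3], ![1, 0, 3, 7]],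
  ofNat4 ![![1, 0, 3, 7], ![0, 1, 0, 3], ![3, 0, 4, 2], ![7, 3, 2, 7]],
  ofNat4 ![![7, 3, 2, 7], ![3, 0, 4, 2], ![2, 4, 6, 1], ![7, 2, 1, 2]],
  ofNat4 ![![7, 2, 1, 2], ![2, 4, 6, 1], ![1, 6, 7, 4], ![2, 1, 4, 1]],
  ofNat4 ![![2, 1, 4, 1], ![1, 6, 7, 4], ![4, 7, 1, 2], ![1, 4, 2, 2]],
  ofNat4 ![![1, 4, 2, 2], ![4, 7, 1, 2], ![2, 1, 1, 2], ![2, 2, 2, 2]],
  ofNat4 ![![2, 2, 2, 2], ![2, 1, 1, 2], ![2, 1, 7, 4], ![2, 2, 4, 1]],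
  ofNat4 ![![2, 2, 4, 1], ![2, 1, 7, 4], ![4, 7, 6, 1], ![1, 4, 1, 2]],
  ofNat4 ![![1, 4, 1, 2], ![4, 7, 6, 1], ![1, 6, 4, 2], ![2, 1, 2, 7]],
  ofNat4 ![![2, 1, 2, 7], ![1, 6, 4, 2], ![2, 4, 0, 3], ![7, 2, 3, 7]],
  ofNat4 ![![7, 2, 3, 7], ![2, 4, 0, 3], ![3, 0, 1, 0], ![7, 3, 0, 1]],
  ofNat4 ![![7, 3, 0, 1], ![3, 0, 1, 0], ![0, 1, 0, 0], ![1, 0, 0, 0]],
  ofNat4 ![![1, 0, 0, 0], ![0, 1, 0, 0], ![0, 0, 1, 0], ![0, 0, 0, 1]]]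

theorem szcert13 : szCert szp13 13 = true := by decide +kernel

/-- The powers of the element of order 7. -/
def szp7 : List M8 := [ofNat4 ![![1, 0, 0, 0], ![0, 1, 0, 0], ![0, 0, 1, 0], ![0, 0, 0, 1]],
  ofNat4 ![![7, 0, 0, 0], ![0, 2, 0, 0], ![0, 0, 5, 0], ![0, 0, 0, 4]],
  ofNat4 ![![3, 0, 0, 0], ![0, 4, 0, 0], ![0, 0, 7, 0], ![0, 0, 0, 6]],
  ofNat4 ![![2, 0, 0, 0], ![0, 3, 0, 0], ![0, 0, 6, 0], ![0, 0, 0, 5]],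
  ofNat4 ![![5, 0, 0, 0], ![0, 6, 0, 0], ![0, 0, 3, 0], ![0, 0, 0, 2]],
  ofNat4 ![![6, 0, 0, 0], ![0, 7, 0, 0], ![0, 0, 4, 0], ![0, 0, 0, 3]],
  ofNat4 ![![4, 0, 0, 0], ![0, 5, 0, 0], ![0, 0, 2, 0], ![0, 0, 0, 7]],
  ofNat4 ![![1, 0, 0, 0], ![0, 1, 0, 0], ![0, 0, 1, 0], ![0, 0, 0, 1]]]

theorem szcert7 : szCert szp7 7 = true := by decide +kernel

/-- The powers of the element of order 5. -/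
def szp5 : List M8 := [ofNat4 ![![1, 0, 0, 0], ![0, 1, 0, 0], ![0, 0, 1, 0], ![0, 0, 0, 1]],
  ofNat4 ![![0, 0, 0, 1], ![0, 0, 1, 0], ![0, 1, 0, 1], ![1, 0, 1, 1]],
  ofNat4 ![![1, 0, 1, 1], ![0, 1, 0, 1], ![1, 0, 0, 1], ![1, 1, 1, 1]],
  ofNat4 ![![1, 1, 1, 1], ![1, 0, 0, 1], ![1, 0, 1, 0], ![1, 1, 0, 1]],
  ofNat4 ![![1, 1, 0, 1], ![1, 0, 1, 0], ![0, 1, 0, 0], ![1, 0, 0, 0]],
  ofNat4 ![![1, 0, 0, 0], ![0, 1, 0, 0], ![0, 0, 1, 0], ![0, 0, 0, 1]]]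

theorem szcert5 : szCert szp5 5 = true := by decide +kernel

/-- The inverse of the transposed square. -/
def conjC : M8 := ofNat4 ![![3, 5, 0, 1], ![5, 0, 1, 0], ![0, 1, 0, 0], ![1, 0, 0, 0]]

/-- An inverse certificate. -/
def invR : M8 := ofNat4 ![![4, 4, 2, 5], ![4, 1, 2, 2], ![2, 2, 0, 3], ![5, 2, 3, 1]]

end CfsgLib.PspSixGraph
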