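import Cfsg.Agent.PspSixGraph.SpTools

/-!
The elements of orders `6, 7, 10, 13, 14, 15` of `PSp₆(3)` (generated data).
-/

set_option autoImplicit false
set_option maxRecDepth 100000

namespace CfsgLib.PspSixGraph

open Matrix

/-- The powers of the element of order 6. -/
def pows6 : List M := [ofFun ![![1, 0, 0, 0, 0, 0], ![0, 1, 0, 0, 0, 0], ![0, 0, 1, 0, 0, 0], ![0, 0, 0, 1, 0, 0], ![0, 0, 0, 0, 1, 0], ![0, 0, 0, 0, 0, 1]],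
  ofFun ![![0, 0, 1, 1, 1, 0], ![0, 1, 1, 0, 2, 1], ![0, 1, 0, 0, 1, 1], ![2, 0, 1, 2, 1, 0], ![1, 1, 2, 2, 0, 2], ![2, 0, 2, 1, 0, 2]],
  ofFun ![![0, 2, 0, 1, 2, 0], ![1, 1, 1, 2, 0, 2], ![0, 2, 2, 0, 2, 2], ![2, 2, 0, 2, 2, 0], ![2, 0, 2, 1, 1, 1], ![0, 2, 1, 0, 2, 0]],
  ofFun ![![1, 1, 1, 0, 2, 0], ![2, 2, 2, 1, 0, 0], ![0, 0, 1, 0, 0, 0], ![0, 1, 1, 1, 2, 0], ![2, 0, 1, 1, 2, 0], ![2, 2, 0, 1, 2, 1]],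
  ofFun ![![2, 1, 0, 2, 1, 0], ![2, 1, 2, 1, 0, 1], ![0, 1, 0, 0, 1, 1], ![1, 1, 0, 0, 1, 0], ![1, 0, 1, 2, 1, 2], ![0, 1, 2, 0, 1, 2]],
  ofFun ![![2, 2, 1, 2, 0, 0], ![1, 0, 0, 2, 1, 2], ![0, 2, 2, 0, 2, 2], ![1, 2, 1, 0, 0, 0], ![0, 2, 0, 0, 1, 1], ![2, 1, 1, 1, 1, 0]],
  ofFun ![![1, 0, 0, 0, 0, 0], ![0, 1, 0, 0, 0, 0], ![0, 0, 1, 0, 0, 0], ![0, 0, 0, 1, 0, 0], ![0, 0, 0, 0, 1, 0], ![0, 0, 0, 0, 0, 1]]]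

theorem cert6 : powCert pows6 = true := by decide +kernel

/-- The powers of the element of order 7. -/
def pows7 : List M := [ofFun ![![1, 0, 0, 0, 0, 0], ![0, 1, 0, 0, 0, 0], ![0, 0, 1, 0, 0, 0], ![0, 0, 0, 1, 0, 0], ![0, 0, 0, 0, 1, 0], ![0, 0, 0, 0, 0, 1]],
  ofFun ![![2, 2, 0, 2, 2, 1], ![1, 2, 0, 1, 2, 2], ![1, 0, 1, 0, 0, 0], ![1, 2, 2, 0, 0, 0], ![1, 0, 1, 2, 1, 1], ![1, 0, 2, 2, 0, 2]],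
  ofFun ![![2, 0, 2, 0, 1, 1], ![0, 2, 2, 0, 2, 2], ![0, 2, 1, 2, 2, 1], ![0, 0, 2, 1, 0, 2], ![1, 0, 2, 0, 0, 1], ![2, 0, 1, 0, 2, 2]],
  ofFun ![![2, 1, 2, 2, 2, 2], ![2, 1, 2, 1, 0, 1], ![2, 2, 0, 2, 0, 2], ![2, 2, 2, 1, 0, 1], ![2, 2, 1, 1, 2, 0], ![0, 1, 1, 0, 0, 2]],
  ofFun ![![1, 1, 0, 1, 2, 1], ![0, 2, 0, 1, 0, 0], ![1, 0, 2, 1, 2, 1], ![1, 1, 0, 2, 2, 2], ![1, 1, 2, 1, 1, 2], ![1, 2, 2, 2, 2, 0]],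
  ofFun ![![1, 0, 0, 0, 0, 1], ![0, 0, 2, 2, 1, 1], ![2, 1, 2, 2, 1, 2], ![0, 2, 1, 2, 0, 0], ![0, 0, 0, 0, 2, 2], ![1, 1, 2, 2, 2, 1]],
  ofFun ![![0, 2, 2, 1, 2, 0], ![0, 1, 0, 1, 1, 0], ![0, 1, 2, 2, 1, 0], ![2, 2, 2, 2, 1, 1], ![1, 0, 0, 2, 2, 0], ![1, 2, 1, 0, 0, 1]],
  ofFun ![![1, 0, 0, 0, 0, 0], ![0, 1, 0, 0, 0, 0], ![0, 0, 1, 0, 0, 0], ![0, 0, 0, 1, 0, 0], ![0, 0, 0, 0, 1, 0], ![0, 0, 0, 0, 0, 1]]]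

theorem cert7 : powCert pows7 = true := by decide +kernel

/-- The powers of the element of order 10. -/
def pows10 : List M := [ofFun ![![1, 0, 0, 0, 0, 0], ![0, 1, 0, 0, 0, 0], ![0, 0, 1, 0, 0, 0], ![0, 0, 0, 1, 0, 0], ![0, 0, 0, 0, 1, 0], ![0, 0, 0, 0, 0, 1]],
  ofFun ![![0, 2, 1, 0, 2, 0], ![0, 1, 1, 0, 2, 1], ![0, 2, 0, 1, 0, 1], ![2, 1, 1, 0, 0, 0], ![1, 1, 2, 2, 0, 2], ![2, 2, 2, 0, 1, 2]],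
  ofFun ![![2, 0, 0, 2, 1, 1], ![1, 1, 1, 2, 0, 2], ![1, 2, 2, 0, 2, 1], ![0, 1, 0, 1, 0, 2], ![2, 1, 2, 2, 0, 1], ![2, 0, 1, 1, 1, 1]],
  ofFun ![![1, 0, 2, 2, 2, 1], ![2, 2, 2, 1, 0, 0], ![1, 0, 0, 0, 1, 1], ![0, 0, 0, 0, 1, 2], ![0, 1, 1, 2, 1, 2], ![2, 1, 1, 0, 2, 2]],
  ofFun ![![2, 0, 0, 0, 0, 2], ![2, 2, 2, 2, 2, 1], ![0, 2, 2, 2, 0, 1], ![2, 2, 0, 2, 2, 0], ![0, 1, 0, 0, 1, 2], ![0, 1, 2, 2, 2, 1]],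
  ofFun ![![1, 2, 0, 0, 0, 1], ![2, 1, 0, 0, 0, 1], ![0, 1, 0, 2, 2, 0], ![0, 1, 1, 1, 2, 0], ![2, 0, 1, 2, 1, 1], ![2, 2, 0, 0, 0, 0]],
  ofFun ![![2, 0, 2, 0, 1, 1], ![2, 1, 2, 0, 1, 0], ![0, 2, 1, 1, 2, 2], ![1, 0, 0, 2, 2, 0], ![1, 2, 2, 0, 2, 2], ![0, 0, 1, 0, 2, 2]],
  ofFun ![![0, 2, 0, 1, 2, 0], ![1, 1, 2, 1, 0, 2], ![2, 2, 2, 2, 0, 2], ![0, 0, 1, 1, 2, 1], ![0, 2, 2, 0, 2, 0], ![0, 2, 2, 2, 2, 0]],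
  ofFun ![![1, 2, 1, 1, 1, 0], ![0, 0, 1, 2, 0, 1], ![2, 1, 1, 2, 1, 2], ![0, 1, 1, 2, 1, 1], ![2, 2, 0, 0, 1, 2], ![0, 1, 2, 0, 1, 2]],
  ofFun ![![0, 2, 0, 0, 0, 2], ![0, 0, 1, 1, 1, 0], ![0, 2, 2, 0, 2, 2], ![1, 2, 1, 0, 0, 0], ![2, 2, 1, 2, 1, 2], ![2, 1, 1, 1, 1, 0]],
  ofFun ![![1, 0, 0, 0, 0, 0], ![0, 1, 0, 0, 0, 0], ![0, 0, 1, 0, 0, 0], ![0, 0, 0, 1, 0, 0], ![0, 0, 0, 0, 1, 0], ![0, 0, 0, 0, 0, 1]]]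

theorem cert10 : powCert pows10 = true := by decide +kernel

/-- The powers of the element of order 13. -/
def pows13 : List M := [ofFun ![![1, 0, 0, 0, 0, 0], ![0, 1, 0, 0, 0, 0], ![0, 0, 1, 0, 0, 0], ![0, 0, 0, 1, 0, 0], ![0, 0, 0, 0, 1, 0], ![0, 0, 0, 0, 0, 1]],
  ofFun ![![0, 2, 2, 2, 2, 2], ![0, 1, 0, 1, 2, 2], ![2, 0, 2, 1, 0, 1], ![2, 1, 1, 0, 0, 0], ![2, 0, 0, 2, 0, 2], ![1, 0, 0, 1, 1, 0]],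
  ofFun ![![2, 1, 0, 1, 0, 1], ![2, 2, 1, 1, 1, 0], ![1, 2, 0, 1, 2, 0], ![2, 2, 0, 0, 0, 1], ![0, 0, 0, 0, 0, 1], ![1, 0, 0, 1, 2, 1]],
  ofFun ![![0, 0, 2, 0, 1, 0], ![0, 1, 1, 0, 2, 2], ![0, 2, 0, 2, 0, 1], ![1, 0, 1, 1, 0, 2], ![1, 0, 0, 1, 1, 0], ![1, 0, 0, 1, 0, 0]],
  ofFun ![![0, 0, 1, 1, 0, 1], ![2, 1, 2, 2, 1, 1], ![2, 1, 2, 0, 2, 1], ![0, 0, 2, 2, 1, 0], ![1, 0, 0, 1, 2, 1], ![2, 0, 0, 2, 2, 2]],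
  ofFun ![![2, 1, 0, 2, 1, 1], ![2, 1, 1, 1, 1, 1], ![0, 2, 2, 0, 1, 0], ![1, 2, 0, 1, 0, 1], ![1, 0, 0, 1, 0, 0], ![1, 0, 0, 1, 0, 2]],
  ofFun ![![1, 1, 0, 2, 1, 2], ![1, 0, 1, 0, 1, 0], ![0, 2, 1, 0, 1, 2], ![0, 2, 0, 2, 1, 0], ![2, 0, 0, 2, 2, 2], ![1, 0, 0, 1, 1, 2]],
  ofFun ![![2, 2, 1, 1, 0, 0], ![1, 2, 1, 2, 2, 2], ![0, 2, 2, 1, 0, 1], ![0, 1, 2, 1, 1, 0], ![1, 0, 0, 1, 0, 2], ![0, 0, 0, 0, 1, 1]],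
  ofFun ![![1, 1, 1, 1, 2, 0], ![0, 0, 0, 2, 2, 2], ![1, 0, 2, 2, 2, 0], ![2, 2, 2, 2, 2, 0], ![1, 0, 0, 1, 1, 2], ![0, 0, 0, 0, 1, 2]],
  ofFun ![![2, 1, 2, 2, 1, 0], ![1, 2, 2, 0, 2, 1], ![0, 1, 2, 2, 2, 2], ![0, 2, 1, 0, 2, 2], ![0, 0, 0, 0, 1, 1], ![1, 0, 0, 1, 2, 2]],
  ofFun ![![1, 1, 1, 0, 0, 1], ![0, 1, 0, 2, 1, 0], ![2, 0, 0, 0, 1, 2], ![2, 2, 2, 0, 0, 0], ![0, 0, 0, 0, 1, 2], ![2, 0, 0, 2, 1, 0]],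
  ofFun ![![0, 0, 1, 2, 2, 2], ![0, 0, 2, 0, 2, 1], ![1, 1, 1, 2, 0, 0], ![1, 0, 2, 2, 2, 1], ![1, 0, 0, 1, 2, 2], ![0, 0, 0, 0, 1, 0]],
  ofFun ![![0, 2, 1, 1, 2, 2], ![0, 0, 1, 1, 1, 0], ![0, 2, 0, 1, 1, 2], ![1, 1, 2, 0, 0, 2], ![2, 0, 0, 2, 1, 0], ![2, 0, 0, 2, 0, 2]],
  ofFun ![![1, 0, 0, 0, 0, 0], ![0, 1, 0, 0, 0, 0], ![0, 0, 1, 0, 0, 0], ![0, 0, 0, 1, 0, 0], ![0, 0, 0, 0, 1, 0], ![0, 0, 0, 0, 0, 1]]]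

theorem cert13 : powCert pows13 = true := by decide +kernel

/-- The powers of the element of order 14. -/
def pows14 : List M := [ofFun ![![1, 0, 0, 0, 0, 0], ![0, 1, 0, 0, 0, 0], ![0, 0, 1, 0, 0, 0], ![0, 0, 0, 1, 0, 0], ![0, 0, 0, 0, 1, 0], ![0, 0, 0, 0, 0, 1]],
  ofFun ![![1, 0, 1, 1, 1, 2], ![2, 2, 1, 0, 2, 0], ![1, 1, 0, 0, 0, 2], ![1, 1, 1, 1, 1, 1], ![2, 1, 1, 0, 2, 2], ![1, 2, 0, 1, 0, 2]],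
  ofFun ![![1, 1, 0, 1, 1, 2], ![2, 1, 0, 2, 1, 1], ![2, 0, 2, 0, 0, 0], ![2, 1, 1, 0, 0, 0], ![2, 0, 2, 1, 2, 2], ![2, 0, 1, 1, 0, 1]],
  ofFun ![![2, 2, 1, 1, 0, 0], ![0, 1, 0, 2, 2, 1], ![1, 2, 2, 2, 2, 2], ![2, 0, 0, 2, 1, 0], ![2, 0, 2, 2, 1, 2], ![2, 1, 0, 1, 0, 0]],
  ofFun ![![2, 0, 2, 0, 1, 1], ![0, 2, 2, 0, 2, 2], ![0, 2, 1, 2, 2, 1], ![0, 0, 2, 1, 0, 2], ![1, 0, 2, 0, 0, 1], ![2, 0, 1, 0, 2, 2]],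
  ofFun ![![1, 2, 0, 0, 1, 0], ![0, 0, 1, 2, 2, 0], ![0, 2, 0, 0, 1, 1], ![2, 1, 1, 0, 1, 0], ![1, 1, 1, 2, 1, 2], ![0, 1, 1, 1, 0, 2]],
  ofFun ![![1, 2, 1, 1, 1, 1], ![1, 2, 1, 2, 0, 2], ![1, 1, 0, 1, 0, 1], ![1, 1, 1, 2, 0, 2], ![1, 1, 2, 2, 1, 0], ![0, 2, 2, 0, 0, 1]],
  ofFun ![![1, 0, 2, 0, 2, 0], ![1, 2, 2, 2, 1, 1], ![2, 2, 0, 0, 1, 2], ![2, 0, 1, 2, 2, 1], ![0, 1, 2, 0, 1, 1], ![1, 2, 2, 1, 1, 0]],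
  ofFun ![![1, 1, 0, 1, 2, 1], ![0, 2, 0, 1, 0, 0], ![1, 0, 2, 1, 2, 1], ![1, 1, 0, 2, 2, 2], ![1, 1, 2, 1, 1, 2], ![1, 2, 2, 2, 2, 0]],
  ofFun ![![0, 1, 2, 0, 2, 0], ![2, 2, 0, 1, 2, 1], ![0, 1, 1, 0, 0, 1], ![2, 1, 0, 2, 0, 0], ![1, 1, 1, 1, 0, 1], ![1, 1, 1, 0, 2, 0]],
  ofFun ![![2, 0, 0, 0, 0, 2], ![0, 0, 1, 1, 2, 2], ![1, 2, 1, 1, 2, 1], ![0, 1, 2, 1, 0, 0], ![0, 0, 0, 0, 1, 1], ![2, 2, 1, 1, 1, 2]],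
  ofFun ![![1, 1, 2, 1, 2, 2], ![2, 2, 0, 0, 2, 2], ![0, 1, 0, 0, 1, 2], ![2, 2, 2, 1, 0, 2], ![0, 0, 1, 1, 2, 1], ![0, 2, 0, 2, 0, 1]],
  ofFun ![![0, 2, 2, 1, 2, 0], ![0, 1, 0, 1, 1, 0], ![0, 1, 2, 2, 1, 0], ![2, 2, 2, 2, 1, 1], ![1, 0, 0, 2, 2, 0], ![1, 2, 1, 0, 0, 1]],
  ofFun ![![2, 0, 2, 1, 0, 0], ![2, 1, 0, 1, 2, 0], ![2, 1, 1, 2, 0, 2], ![1, 2, 1, 2, 1, 2], ![1, 1, 2, 0, 1, 2], ![1, 1, 0, 2, 2, 0]],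
  ofFun ![![2, 0, 0, 0, 0, 0], ![0, 2, 0, 0, 0, 0], ![0, 0, 2, 0, 0, 0], ![0, 0, 0, 2, 0, 0], ![0, 0, 0, 0, 2, 0], ![0, 0, 0, 0, 0, 2]]]

theorem cert14 : powCert pows14 = true := by decide +kernel

/-- The powers of the element of order 15. -/
def pows15 : List M := [ofFun ![![1, 0, 0, 0, 0, 0], ![0, 1, 0, 0, 0, 0], ![0, 0, 1, 0, 0, 0], ![0, 0, 0, 1, 0, 0], ![0, 0, 0, 0, 1, 0], ![0, 0, 0, 0, 0, 1]],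
  ofFun ![![0, 2, 2, 2, 2, 2], ![0, 1, 0, 1, 2, 2], ![0, 2, 1, 0, 0, 0], ![2, 1, 1, 0, 0, 0], ![1, 1, 1, 0, 0, 0], ![2, 2, 2, 0, 1, 2]],
  ofFun ![![1, 2, 1, 2, 0, 2], ![2, 2, 1, 1, 1, 0], ![0, 1, 1, 2, 1, 1], ![0, 1, 2, 2, 0, 0], ![0, 2, 0, 0, 1, 1], ![2, 0, 2, 0, 1, 0]],
  ofFun ![![2, 0, 0, 1, 2, 1], ![0, 1, 1, 0, 2, 2], ![1, 2, 0, 1, 0, 1], ![1, 1, 1, 1, 2, 2], ![0, 2, 0, 2, 2, 0], ![1, 0, 1, 1, 1, 1]],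
  ofFun ![![0, 0, 0, 1, 2, 0], ![0, 0, 1, 1, 1, 0], ![1, 1, 2, 1, 1, 2], ![2, 0, 1, 0, 0, 2], ![0, 0, 1, 2, 1, 1], ![2, 2, 1, 2, 0, 1]],
  ofFun ![![1, 0, 0, 0, 0, 0], ![0, 1, 0, 0, 0, 0], ![1, 1, 1, 0, 0, 2], ![1, 1, 0, 1, 0, 2], ![1, 1, 0, 0, 1, 2], ![0, 0, 0, 0, 0, 1]],
  ofFun ![![0, 2, 2, 2, 2, 2], ![0, 1, 0, 1, 2, 2], ![1, 0, 1, 0, 0, 2], ![0, 2, 1, 0, 0, 2], ![2, 2, 1, 0, 0, 2], ![2, 2, 2, 0, 1, 2]],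
  ofFun ![![1, 2, 1, 2, 0, 2], ![2, 2, 1, 1, 1, 0], ![1, 2, 1, 2, 1, 0], ![1, 2, 2, 2, 0, 2], ![1, 0, 0, 0, 1, 0], ![2, 0, 2, 0, 1, 0]],
  ofFun ![![2, 0, 0, 1, 2, 1], ![0, 1, 1, 0, 2, 2], ![2, 0, 0, 1, 0, 0], ![2, 2, 1, 1, 2, 1], ![1, 0, 0, 2, 2, 2], ![1, 0, 1, 1, 1, 1]],
  ofFun ![![0, 0, 0, 1, 2, 0], ![0, 0, 1, 1, 1, 0], ![2, 2, 2, 1, 1, 1], ![0, 1, 1, 0, 0, 1], ![1, 1, 1, 2, 1, 0], ![2, 2, 1, 2, 0, 1]],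
  ofFun ![![1, 0, 0, 0, 0, 0], ![0, 1, 0, 0, 0, 0], ![2, 2, 1, 0, 0, 1], ![2, 2, 0, 1, 0, 1], ![2, 2, 0, 0, 1, 1], ![0, 0, 0, 0, 0, 1]],
  ofFun ![![0, 2, 2, 2, 2, 2], ![0, 1, 0, 1, 2, 2], ![2, 1, 1, 0, 0, 1], ![1, 0, 1, 0, 0, 1], ![0, 0, 1, 0, 0, 1], ![2, 2, 2, 0, 1, 2]],
  ofFun ![![1, 2, 1, 2, 0, 2], ![2, 2, 1, 1, 1, 0], ![2, 0, 1, 2, 1, 2], ![2, 0, 2, 2, 0, 1], ![2, 1, 0, 0, 1, 2], ![2, 0, 2, 0, 1, 0]],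
  ofFun ![![2, 0, 0, 1, 2, 1], ![0, 1, 1, 0, 2, 2], ![0, 1, 0, 1, 0, 2], ![0, 0, 1, 1, 2, 0], ![2, 1, 0, 2, 2, 1], ![1, 0, 1, 1, 1, 1]],
  ofFun ![![0, 0, 0, 1, 2, 0], ![0, 0, 1, 1, 1, 0], ![0, 0, 2, 1, 1, 0], ![1, 2, 1, 0, 0, 0], ![2, 2, 1, 2, 1, 2], ![2, 2, 1, 2, 0, 1]],
  ofFun ![![1, 0, 0, 0, 0, 0], ![0, 1, 0, 0, 0, 0], ![0, 0, 1, 0, 0, 0], ![0, 0, 0, 1, 0, 0], ![0, 0, 0, 0, 1, 0], ![0, 0, 0, 0, 0, 1]]]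

theorem cert15 : powCert pows15 = true := by decide +kernel

/-- The orbit of the cyclic vector. -/
def ys13 : Fin 14 → (I → ZMod 3) := ![ofVec ![1, 0, 0, 0, 0, 0],
  ofVec ![0, 0, 2, 2, 2, 1],
  ofVec ![2, 2, 1, 2, 0, 1],
  ofVec ![0, 0, 0, 1, 1, 1],
  ofVec ![0, 2, 2, 0, 1, 2],
  ofVec ![2, 2, 0, 1, 1, 1],
  ofVec ![1, 1, 0, 0, 2, 1],
  ofVec ![2, 1, 0, 0, 1, 0],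
  ofVec ![1, 0, 1, 2, 1, 0],
  ofVec ![2, 1, 0, 0, 0, 1],
  ofVec ![1, 0, 2, 2, 0, 2],
  ofVec ![0, 0, 1, 1, 1, 0],
  ofVec ![0, 0, 0, 1, 2, 2],
  ofVec ![1, 0, 0, 0, 0, 0]]

/-- Inverse of the cyclic basis. -/
def kin13 : Matrix (Fin 6) I (ZMod 3) := Matrix.of fun r j => (![![1, 2, 2, 0, 2, 1], ![0, 0, 0, 2, 2, 2], ![0, 0, 2, 2, 0, 1], ![0, 1, 2, 1, 0, 0], ![0, 0, 1, 0, 1, 2], ![0, 2, 0, 1, 2, 0]] : Fin 6 → Fin 6 → ZMod 3) r (ix j)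

theorem certY13 : yCert (el pows13 1) ys13 kin13 13 = true := by decide +kernel

theorem certC13 : cCert ys13 13 = true := by decide +kernel

/-- The orbit of the cyclic vector. -/
def ys7 : Fin 14 → (I → ZMod 3) := ![ofVec ![1, 0, 0, 0, 0, 0],
  ofVec ![2, 1, 1, 1, 1, 1],
  ofVec ![2, 0, 0, 0, 1, 2],
  ofVec ![2, 2, 2, 2, 2, 0],
  ofVec ![1, 0, 1, 1, 1, 1],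
  ofVec ![1, 0, 2, 0, 0, 1],
  ofVec ![0, 0, 0, 2, 1, 1],
  ofVec ![1, 0, 0, 0, 0, 0],
  ofVec ![2, 1, 1, 1, 1, 1],
  ofVec ![2, 0, 0, 0, 1, 2],
  ofVec ![2, 2, 2, 2, 2, 0],
  ofVec ![1, 0, 1, 1, 1, 1],
  ofVec ![1, 0, 2, 0, 0, 1],
  ofVec ![0, 0, 0, 2, 1, 1]]

/-- Inverse of the cyclic basis. -/
def kin7 : Matrix (Fin 6) I (ZMod 3) := Matrix.of fun r j => (![![1, 2, 0, 0, 0, 2], ![0, 1, 1, 0, 1, 1], ![0, 0, 0, 2, 1, 0], ![0, 0, 1, 0, 1, 1], ![0, 2, 0, 1, 0, 0], ![0, 0, 2, 1, 0, 0]] : Fin 6 → Fin 6 → ZMod 3) r (ix j)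

theorem certY7 : yCert (el pows7 1) ys7 kin7 7 = true := by decide +kernel

theorem certC7 : cCert ys7 7 = true := by decide +kernel

end CfsgLib.PspSixGraph
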